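import Cfsg.Agent.H908.P9.Alpha

/-!
# S5925, box H: the WP lemmas `wp_Beta1`, `wp_Beta2`, `wp_Beta10`, `wp_Beta20` (plan v3) (helper908)
-/

set_option autoImplicit false
set_option linter.style.longLine false

namespace Cfsg.Agent.H908.P9
open Matrix Cfsg.Agent.H879.E83 Cfsg.Agent.H780.P9

/-- the two lane stages of `plBeta1` -/
def BA (pl : Plan) : Plan :=
  (.ex (.df (.mul (.v 7) (.fr (.fr (.v 3))))
  (.fl [(.sub (.mul (.v 7) (.fr (.fr (.v 4)))) (.k 34)), (.sub (.v 5) (.add (.v 9) (.fr (.fr (.v 9)))))] [0, 1, 2, 3, 4, 5, 6, 7]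
  (.ex (.df (.mul (.v 8) (.fr (.fr (.v 4))))
  (.fl [(.sub (.mul (.v 3) (.fr (.fr (.v 8)))) (.k 35)), (.sub (.v 6) (.add (.v 10) (.fr (.fr (.v 10)))))] [1, 0, 2, 7, 4, 3, 8]
  pl))))))

/-- the two lane stages of `plBeta2` -/
def BB (pl : Plan) : Plan :=
  (.ex (.df (.mul (.v 3) (.fr (.fr (.v 7))))
  (.fl [(.sub (.mul (.v 7) (.fr (.fr (.v 4)))) (.k 35)), (.sub (.v 5) (.add (.v 9) (.fr (.fr (.v 9)))))] [0, 1, 2, 3, 4, 5, 6, 7]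
  (.ex (.df (.mul (.v 4) (.fr (.fr (.v 8))))
  (.fl [(.sub (.mul (.v 3) (.fr (.fr (.v 8)))) (.k 34)), (.sub (.v 6) (.add (.v 10) (.fr (.fr (.v 10)))))] [1, 0, 2, 3, 8, 7, 4]
  pl))))))

section
variable {F : Type*} [Field F] {g : F} {q p : Mt F} {m : F} {t : Fin 10 → F} {G : Prop}

theorem e10 (c : Ctx g q p m t) :
    p 0 0 * p 1 2 ^ 9 + p 0 1 * p 1 1 ^ 9 + p 0 2 * p 0 1 ^ 9 = p 1 4 ^ 9 * p 0 3 + p 1 3 ^ 9 * p 0 4 := by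
  have s := c.sym
  have := hermA c 1 0
  rw [if_neg (by decide), s 1 0, s 2 0, s 3 0, s 4 0] at this
  linear_combination this

theorem e12 (c : Ctx g q p m t) :
    p 0 2 * p 1 2 ^ 9 + p 1 2 * p 1 1 ^ 9 + p 2 2 * p 0 1 ^ 9 = p 1 4 ^ 9 * p 2 3 + p 1 3 ^ 9 * p 2 4 := by
  have s := c.sym
  have := hermA c 1 2
  rw [if_neg (by decide), s 1 0, s 3 2, s 4 2] at this
  linear_combination this

/-- the first trace equation -/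
theorem f00 (c : Ctx g q p m t) : (p 0 1 * p 0 1 ^ 9 + (p 0 0 * p 0 2 ^ 9 + (p 0 0 * p 0 2 ^ 9) ^ 9)) -
    (p 0 3 * p 0 4 ^ 9 + ((p 0 3 * p 0 4 ^ 9) ^ 3) ^ 3) = 0 := by
  have s := c.sym
  have := hermA c 0 0
  rw [if_neg (by decide), s 1 0, s 2 0, s 3 0, s 4 0] at this
  linear_combination this + p 0 0 ^ 9 * c.p81 0 2 - p 0 3 ^ 9 * c.p81 0 4

/-- the second trace equation -/
theorem f22 (c : Ctx g q p m t) : (p 1 2 * p 1 2 ^ 9 + (p 0 2 * p 2 2 ^ 9 + (p 0 2 * p 2 2 ^ 9) ^ 9)) -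
    (p 2 3 * p 2 4 ^ 9 + ((p 2 3 * p 2 4 ^ 9) ^ 3) ^ 3) = 0 := by
  have s := c.sym
  have := hermA c 2 2
  rw [if_neg (by decide), s 2 0, s 2 1, s 3 2, s 4 2] at this
  linear_combination this + p 0 2 ^ 9 * c.p81 2 2 - p 2 3 ^ 9 * c.p81 2 4

theorem two_zero {a b : Ex} {ks ls : List F} (ha : a.eval g ks ls = 0) (hb : b.eval g ks ls = 0) :
    ∀ d ∈ [a, b], d.eval g ks ls = 0 := by
  intro d hd
  rcases List.mem_cons.1 hd with rfl | hd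
  · exact ha
  rcases List.mem_cons.1 hd with rfl | hd
  · exact hb
  · exact absurd hd List.not_mem_nil

theorem wp_BA (c : Ctx g q p m t) (h13 : p 1 3 = 1) (h14 : p 1 4 = 0) {pl : Plan} (tl : List F)
    (h : WP g G pl (K38 g p t ++ tl) (LS2 p)) : WP g G (BA pl) (K38 g p t ++ tl) (LC p) := by
  have a10 : p 0 0 * p 1 2 ^ 9 + p 0 1 * p 1 1 ^ 9 + p 0 2 * p 0 1 ^ 9 = p 0 4 := by
    rw [e10 c, h13, h14]; ring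
  have a12 : p 0 2 * p 1 2 ^ 9 + p 1 2 * p 1 1 ^ 9 + p 2 2 * p 0 1 ^ 9 = p 2 4 := by
    rw [e12 c, h13, h14]; ring
  refine WP_ex (p 0 3) (c.p81 0 3) (WP_df (x := p 0 3 * p 0 4 ^ 9) ?_
    (WP_fl (ls' := LC p ++ [p 0 3]) (two_zero ?_ ?_) rfl (WP_ex (p 2 3) (c.p81 2 3)
    (WP_df (x := p 2 3 * p 2 4 ^ 9) ?_ (WP_fl (ls' := LS2 p) (two_zero ?_ ?_) ?_ h)))))
  · show p 0 3 * ((p 0 0 * p 1 2 ^ 9 + p 0 1 * p 1 1 ^ 9 + p 0 2 * p 0 1 ^ 9) ^ 3) ^ 3 = p 0 3 * p 0 4 ^ 9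
    rw [a10]; ring
  · show p 0 3 * ((p 0 2 * p 1 2 ^ 9 + p 1 2 * p 1 1 ^ 9 + p 2 2 * p 0 1 ^ 9) ^ 3) ^ 3 - p 0 3 * p 2 4 ^ 9 = 0
    rw [a12]; ring
  · exact f00 c
  · show p 2 3 * ((p 0 2 * p 1 2 ^ 9 + p 1 2 * p 1 1 ^ 9 + p 2 2 * p 0 1 ^ 9) ^ 3) ^ 3 = p 2 3 * p 2 4 ^ 9
    rw [a12]; ring
  · show (p 0 0 * p 1 2 ^ 9 + p 0 1 * p 1 1 ^ 9 + p 0 2 * p 0 1 ^ 9) * (p 2 3 ^ 3) ^ 3 - p 0 4 * p 2 3 ^ 9 = 0
    rw [a10]; ring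
  · exact f22 c
  · show [p 0 0, p 0 2, p 2 2, p 0 3, p 0 2 * p 1 2 ^ 9 + p 1 2 * p 1 1 ^ 9 + p 2 2 * p 0 1 ^ 9,
      p 0 0 * p 1 2 ^ 9 + p 0 1 * p 1 1 ^ 9 + p 0 2 * p 0 1 ^ 9, p 2 3] = LS2 p
    rw [a10, a12]; rfl

theorem wp_BB (c : Ctx g q p m t) (h13 : p 1 3 = 0) (h14 : p 1 4 = 1) {pl : Plan} (tl : List F)
    (h : WP g G pl (K38 g p t ++ tl) (LS2 p)) : WP g G (BB pl) (K38 g p t ++ tl) (LC p) := by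
  have a10 : p 0 0 * p 1 2 ^ 9 + p 0 1 * p 1 1 ^ 9 + p 0 2 * p 0 1 ^ 9 = p 0 3 := by
    rw [e10 c, h13, h14]; ring
  have a12 : p 0 2 * p 1 2 ^ 9 + p 1 2 * p 1 1 ^ 9 + p 2 2 * p 0 1 ^ 9 = p 2 3 := by
    rw [e12 c, h13, h14]; ring
  refine WP_ex (p 0 4) (c.p81 0 4) (WP_df (x := p 0 3 * p 0 4 ^ 9) ?_
    (WP_fl (ls' := LC p ++ [p 0 4]) (two_zero ?_ ?_) rfl (WP_ex (p 2 4) (c.p81 2 4)
    (WP_df (x := p 2 3 * p 2 4 ^ 9) ?_ (WP_fl (ls' := LS2 p) (two_zero ?_ ?_) ?_ h)))))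
  · show (p 0 0 * p 1 2 ^ 9 + p 0 1 * p 1 1 ^ 9 + p 0 2 * p 0 1 ^ 9) * (p 0 4 ^ 3) ^ 3 = p 0 3 * p 0 4 ^ 9
    rw [a10]; ring
  · show p 0 4 * ((p 0 2 * p 1 2 ^ 9 + p 1 2 * p 1 1 ^ 9 + p 2 2 * p 0 1 ^ 9) ^ 3) ^ 3 - p 0 4 * p 2 3 ^ 9 = 0
    rw [a12]; ring
  · exact f00 c
  · show (p 0 2 * p 1 2 ^ 9 + p 1 2 * p 1 1 ^ 9 + p 2 2 * p 0 1 ^ 9) * (p 2 4 ^ 3) ^ 3 = p 2 3 * p 2 4 ^ 9
    rw [a12]; ring
  · show (p 0 0 * p 1 2 ^ 9 + p 0 1 * p 1 1 ^ 9 + p 0 2 * p 0 1 ^ 9) * (p 2 4 ^ 3) ^ 3 - p 0 3 * p 2 4 ^ 9 = 0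
    rw [a10]; ring
  · exact f22 c
  · show [p 0 0, p 0 2, p 2 2, p 0 0 * p 1 2 ^ 9 + p 0 1 * p 1 1 ^ 9 + p 0 2 * p 0 1 ^ 9, p 2 4, p 0 4,
      p 0 2 * p 1 2 ^ 9 + p 1 2 * p 1 1 ^ 9 + p 2 2 * p 0 1 ^ 9] = LS2 p
    rw [a10, a12]; rfl

/-- **the branch `q13 = 1`, `q14 = 0`** -/
theorem wp_Beta1 (c : Ctx g q p m t) (h13 : p 1 3 = 1) (h14 : p 1 4 = 0) (h : WS2 g q p t) :
    WC g q p t plBeta1 := by
  have h1 : WP g (Sol g q) (BA plS2) (K38 g p t ++ [0, 0]) (LC p) := wp_BA c h13 h14 _ h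
  have h2 : WP g (Sol g q) (BA plS2) (K38 g p t ++ [0] ++ [0]) (LC p) := by
    rwa [List.append_assoc]
  exact wp_T9 c (pl := .kf .zero (.kf .zero (BA plS2))) (WP_kf (x := 0) rfl (WP_kf (x := 0) rfl h2))

/-- **the branch `q13 = 0`, `q14 = 1`** -/
theorem wp_Beta2 (c : Ctx g q p m t) (h13 : p 1 3 = 0) (h14 : p 1 4 = 1) (h : WS2 g q p t) :
    WC g q p t plBeta2 := by
  have h1 : WP g (Sol g q) (BB plS2) (K38 g p t ++ [0, 0]) (LC p) := wp_BB c h13 h14 _ h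
  have h2 : WP g (Sol g q) (BB plS2) (K38 g p t ++ [0] ++ [0]) (LC p) := by
    rwa [List.append_assoc]
  exact wp_T9 c (pl := .kf .zero (.kf .zero (BB plS2))) (WP_kf (x := 0) rfl (WP_kf (x := 0) rfl h2))

theorem wp_Beta10 (c : Ctx g q p m t) (h13 : p 1 3 = 1) (h14 : p 1 4 = 0) (h : WS2x g q p t plS2i) :
    WC g q p t plBeta10 := by
  have h0 : WP g (Sol g q) plS2i (K38 g p t ++ []) (LS2 p) := by rw [List.append_nil]; exact h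
  have h1 : WP g (Sol g q) (BA plS2i) (K38 g p t ++ []) (LC p) := wp_BA c h13 h14 _ h0
  rw [List.append_nil] at h1
  exact wp_T9 c h1

theorem wp_Beta20 (c : Ctx g q p m t) (h13 : p 1 3 = 0) (h14 : p 1 4 = 1) (h : WS2x g q p t plS2j) :
    WC g q p t plBeta20 := by
  have h0 : WP g (Sol g q) plS2j (K38 g p t ++ []) (LS2 p) := by rw [List.append_nil]; exact h
  have h1 : WP g (Sol g q) (BB plS2j) (K38 g p t ++ []) (LC p) := wp_BB c h13 h14 _ h0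
  rw [List.append_nil] at h1
  exact wp_T9 c h1

end
end Cfsg.Agent.H908.P9
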