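import Cfsg.Agent.H908.P9.Beta

/-!
# S5925, box H: the WP lemma `wp_S2` (helper908)
-/

set_option autoImplicit false
set_option linter.style.longLine false

namespace Cfsg.Agent.H908.P9
open Matrix Cfsg.Agent.H879.E83 Cfsg.Agent.H780.P9

section
variable {F : Type*} [Field F] {g : F} {q p : Mt F} {m : F} {t : Fin 10 → F}

/-- **undo the torus gauge** -/
theorem wp_S2 (c : Ctx g q p m t) (h : WS3 g q p t 0 0) : WS2 g q p t := by
  have hm := c.m80
  have a00 : p 0 0 = q 0 0 := by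
    rw [c.papp]; show (1 : F) * 1 * q 0 0 = q 0 0; ring
  have a02 : p 0 2 = q 0 2 := by
    rw [c.papp]; show (1 : F) * 1 * q 0 2 = q 0 2; ring
  have a22 : p 2 2 = q 2 2 := by
    rw [c.papp]; show (1 : F) * 1 * q 2 2 = q 2 2; ring
  have a03 : p 0 3 = m * q 0 3 := by
    rw [c.papp]; show (1 : F) * m * q 0 3 = _; ring
  have a23 : p 2 3 = m * q 2 3 := by
    rw [c.papp]; show (1 : F) * m * q 2 3 = _; ring
  have a13 : p 1 3 = m * q 1 3 := by
    rw [c.papp]; show (1 : F) * m * q 1 3 = _; ring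
  have a04 : p 0 4 = m ^ 71 * q 0 4 := by
    rw [c.papp]; show (1 : F) * m ^ 71 * q 0 4 = _; ring
  have a24 : p 2 4 = m ^ 71 * q 2 4 := by
    rw [c.papp]; show (1 : F) * m ^ 71 * q 2 4 = _; ring
  have a14 : p 1 4 = m ^ 71 * q 1 4 := by
    rw [c.papp]; show (1 : F) * m ^ 71 * q 1 4 = _; ring
  refine WP_exn m hm (WP_df (x := q 0 3) ?_ (WP_df (x := q 2 3) ?_ (WP_df (x := q 1 3) ?_ (WP_df (x := q 0 4) ?_
    (WP_df (x := q 2 4) ?_ (WP_df (x := q 1 4) ?_ (WP_sel (ls' := LS3 q) ?_ h)))))))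
  · show m ^ 79 * p 0 3 = q 0 3
    rw [a03]; linear_combination q 0 3 * hm
  · show m ^ 79 * p 2 3 = q 2 3
    rw [a23]; linear_combination q 2 3 * hm
  · show m ^ 79 * p 1 3 = q 1 3
    rw [a13]; linear_combination q 1 3 * hm
  · show (m ^ 3) ^ 3 * p 0 4 = q 0 4
    rw [a04]; linear_combination q 0 4 * hm
  · show (m ^ 3) ^ 3 * p 2 4 = q 2 4
    rw [a24]; linear_combination q 2 4 * hm
  · show (m ^ 3) ^ 3 * p 1 4 = q 1 4
    rw [a14]; linear_combination q 1 4 * hm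
  · show [p 0 0, p 0 2, p 2 2, q 0 3, q 2 3, q 1 3, q 0 4, q 2 4, q 1 4] = LS3 q
    rw [a00, a02, a22]; rfl

end
end Cfsg.Agent.H908.P9
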